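/-
The iterated fixed-space flag of a `p`-group acting linearly in characteristic `p`
(the Borel–Tits flag).
-/
import Mathlib

namespace Cfsg.Agent.BorelTitsFlag

variable {F M : Type*} [Field F] [AddCommGroup M] [Module F M] {G : Type*} [Group G]

/-- Vectors fixed by `U` modulo `W`. -/
def step (σ : G →* (M →ₗ[F] M)) (U : Subgroup G) (W : Submodule F M) : Submodule F M :=
  ⨅ u : U, W.comap (σ u - 1)

theorem mem_step {σ : G →* (M →ₗ[F] M)} {U : Subgroup G} {W : Submodule F M} {v : M} :
    v ∈ step σ U W ↔ ∀ u ∈ U, σ u v - v ∈ W := by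
  simp [step, Submodule.mem_iInf, Subtype.forall]

/-- The fixed-space series. -/
def series (σ : G →* (M →ₗ[F] M)) (U : Subgroup G) : ℕ → Submodule F M
  | 0 => ⊥
  | i + 1 => step σ U (series σ U i)

theorem series_le_succ (σ : G →* (M →ₗ[F] M)) (U : Subgroup G) (i : ℕ) :
    series σ U i ≤ series σ U (i + 1) := by
  induction i with
  | zero => exact bot_le
  | succ i ih =>
    intro v hv
    exact mem_step.2 fun u hu => ih (mem_step.1 hv u hu)

theorem apply_mem (σ : G →* (M →ₗ[F] M)) (U : Subgroup G) (i : ℕ) {u : G} (hu : u ∈ U) {v : M}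
    (hv : v ∈ series σ U i) : σ u v ∈ series σ U i := by
  have h := mem_step.1 (series_le_succ σ U i hv) u hu
  simpa using add_mem h hv

theorem series_lt_succ [Finite M] (p : ℕ) [Fact p.Prime] [CharP F p] (σ : G →* (M →ₗ[F] M))
    (U : Subgroup G) (hU : IsPGroup p U) (i : ℕ) (hi : series σ U i ≠ ⊤) :
    series σ U i < series σ U (i + 1) := by
  classical
  set W := series σ U i with hW
  refine lt_of_le_not_ge (series_le_succ σ U i) fun hle => ?_
  let act : U →* ((M ⧸ W) →ₗ[F] (M ⧸ W)) :=
    { toFun := fun u => W.mapQ W (σ u) fun v hv => apply_mem σ U i u.2 hv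
      map_one' := by ext v; simp
      map_mul' := fun a b => by ext v; simp }
  letI : MulAction U (M ⧸ W) :=
    { smul := fun u x => act u x
      one_smul := fun x => by change act 1 x = x; rw [map_one]; rfl
      mul_smul := fun a b x => by change act (a * b) x = act a (act b x); rw [map_mul]; rfl }
  obtain ⟨x₀, hx₀⟩ : ∃ x : M ⧸ W, x ≠ 0 := by
    have := Submodule.Quotient.nontrivial_iff.2 hi
    exact exists_ne 0
  have : Finite (M ⧸ W) := Finite.of_surjective _ W.mkQ_surjective
  have hdvd : p ∣ Nat.card (M ⧸ W) := by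
    have h0 : p • x₀ = 0 := by
      rw [← Nat.cast_smul_eq_nsmul F, CharP.cast_eq_zero, zero_smul]
    have := addOrderOf_eq_prime h0 hx₀
    rw [← this]
    exact addOrderOf_dvd_natCard x₀
  have h0 : (0 : M ⧸ W) ∈ MulAction.fixedPoints U (M ⧸ W) := fun u => map_zero (act u)
  obtain ⟨b, hb, hb0⟩ := hU.exists_fixed_point_of_prime_dvd_card_of_fixed_point (M ⧸ W) hdvd h0
  obtain ⟨v, rfl⟩ := Submodule.mkQ_surjective W b
  have hv : v ∈ series σ U (i + 1) := mem_step.2 fun u hu => by
    have := hb ⟨u, hu⟩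
    exact (Submodule.Quotient.eq W).1 (by exact this)
  exact hb0 ((Submodule.Quotient.mk_eq_zero W).2 (hle hv)).symm

theorem map_series_le (σ : G →* (M →ₗ[F] M)) (U : Subgroup G) {g : G}
    (hg : g ∈ Subgroup.normalizer (U : Set G)) (i : ℕ) :
    (series σ U i).map (σ g) ≤ series σ U i := by
  induction i with
  | zero => simp [series]
  | succ i ih =>
    rintro _ ⟨v, hv, rfl⟩
    refine mem_step.2 fun u hu => ?_
    have hu' : g⁻¹ * u * g ∈ U := by
      have := (Subgroup.mem_normalizer_iff.1 (inv_mem hg) u).1 hu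
      simpa using this
    have h := ih ⟨_, mem_step.1 hv _ hu', rfl⟩
    have e : σ g (σ (g⁻¹ * u * g) v - v) = σ u (σ g v) - σ g v := by
      rw [map_sub, ← Module.End.mul_apply, ← map_mul, ← Module.End.mul_apply, ← map_mul]
      congr 2
      group
    rwa [e] at h

theorem map_series (σ : G →* (M →ₗ[F] M)) (U : Subgroup G) {g : G}
    (hg : g ∈ Subgroup.normalizer (U : Set G)) (i : ℕ) :
    (series σ U i).map (σ g) = series σ U i := by
  refine le_antisymm (map_series_le σ U hg i) fun v hv => ?_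
  refine ⟨σ g⁻¹ v, map_series_le σ U (inv_mem hg) i ⟨v, hv, rfl⟩, ?_⟩
  rw [← Module.End.mul_apply, ← map_mul]
  simp

theorem exists_flag [Finite M] (p : ℕ) [Fact p.Prime] [CharP F p] (σ : G →* (M →ₗ[F] M))
    (U : Subgroup G) (hU : IsPGroup p U) (hne : ∃ u ∈ U, σ u ≠ 1) :
    ∃ (k : ℕ) (V : Fin (k + 2) → Submodule F M), 1 ≤ k ∧ StrictMono V ∧ V 0 = ⊥ ∧
      V (Fin.last (k + 1)) = ⊤ ∧
      (∀ g ∈ Subgroup.normalizer (U : Set G), ∀ i, (V i).map (σ g) = V i) ∧
      (∀ u ∈ U, ∀ i : Fin (k + 1), ∀ v ∈ V i.succ, σ u v - v ∈ V (Fin.castSucc i)) := by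
  classical
  have hex : ∃ m, series σ U m = ⊤ := by
    by_contra h
    push Not at h
    exact not_injective_infinite_finite (series σ U)
      (strictMono_nat_of_lt_succ fun i => series_lt_succ p σ U hU i (h i)).injective
  obtain ⟨u, hu, hune⟩ := hne
  have h0 : series σ U 0 ≠ ⊤ := fun h => hune (LinearMap.ext fun v => by
    have : v ∈ series σ U 0 := h ▸ Submodule.mem_top
    simp only [series, Submodule.mem_bot] at this
    simp [this])
  have h1 : series σ U 1 ≠ ⊤ := fun h => hune (LinearMap.ext fun v => by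
    have : v ∈ series σ U 1 := h ▸ Submodule.mem_top
    simpa [series, sub_eq_zero] using mem_step.1 this u hu)
  obtain ⟨k, hk⟩ : ∃ k, Nat.find hex = k + 2 := by
    refine ⟨Nat.find hex - 2, ?_⟩
    have hs := Nat.find_spec hex
    rcases hm : Nat.find hex with _ | _ | m
    · rw [hm] at hs; exact absurd hs h0
    · rw [hm] at hs; exact absurd hs h1
    · rfl
  refine ⟨k + 1, fun i => series σ U i, by omega, ?_, rfl, ?_, fun g hg i => map_series σ U hg i,
    fun v hv i w hw => mem_step.1 hw v hv⟩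
  · intro i j hij
    have hlt : series σ U i < series σ U (i + 1) :=
      series_lt_succ p σ U hU i (Nat.find_min hex (by omega))
    exact hlt.trans_le (monotone_nat_of_le_succ (series_le_succ σ U) (by omega))
  · simpa [← hk] using Nat.find_spec hex

end Cfsg.Agent.BorelTitsFlag
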